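import Mathlib

/-!
In PSL(n, F), n ≥ 3, some element is not a product of n - 1 conjugates of a transvection: such a product
fixes a nonzero vector up to an n-th root of unity, and a companion matrix avoids this.
-/

set_option autoImplicit false

namespace CfsgLib.PSLCover

open Matrix

variable {F : Type*} [Field F] {m : ℕ}

private theorem prod_fix {v : Fin (m + 3) → F} :
    ∀ l : List (SpecialLinearGroup (Fin (m + 3)) F),
      (∀ t ∈ l, (t : Matrix (Fin (m + 3)) (Fin (m + 3)) F) *ᵥ v = v) →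
      ((l.prod : SpecialLinearGroup (Fin (m + 3)) F) : Matrix (Fin (m + 3)) (Fin (m + 3)) F) *ᵥ v = v
  | [], _ => by simp
  | t :: l, h => by
      rw [List.prod_cons]
      show (t.1 * l.prod.1) *ᵥ v = v
      rw [← Matrix.mulVec_mulVec, prod_fix l fun s hs => h s (List.mem_cons_of_mem _ hs), h t List.mem_cons_self]

/-- An element without fixed lines for the n-th roots of unity. -/
theorem exists_no_root_eigen (m : ℕ) : ∃ G : SpecialLinearGroup (Fin (m + 3)) F,
    ∀ (μ : F) (v : Fin (m + 3) → F), μ ^ (m + 3) = 1 →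
      (G : Matrix (Fin (m + 3)) (Fin (m + 3)) F) *ᵥ v = μ • v → v = 0 := by
  classical
  obtain ⟨s, hs⟩ : ∃ s : F, s = -(-1) ^ (m + 3) := ⟨_, rfl⟩
  obtain ⟨a, ha⟩ : ∃ a : F, a = if (1 : F) + (-1) ^ (m + 3) = 0 then 1 else 0 := ⟨_, rfl⟩
  set σ : Equiv.Perm (Fin (m + 3)) := (finRotate (m + 3))⁻¹ with hσ
  set M : Matrix (Fin (m + 3)) (Fin (m + 3)) F :=
    Matrix.diagonal (Function.update 1 0 s) + Matrix.single 1 0 (-a) with hM
  have hdM : M.det = s := by
    have ht : M.BlockTriangular OrderDual.toDual := by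
      intro i j hij
      have hlt : i < j := OrderDual.toDual_lt_toDual.1 hij
      rw [hM, Matrix.add_apply, Matrix.diagonal_apply_ne _ hlt.ne, Matrix.single_apply, if_neg, add_zero]
      rintro ⟨rfl, rfl⟩
      exact absurd hlt (by simp)
    rw [Matrix.det_of_isLowerTriangular M ht]
    have : ∀ i, M i i = Function.update (1 : Fin (m + 3) → F) 0 s i := by
      intro i
      rw [hM, Matrix.add_apply, Matrix.diagonal_apply_eq, Matrix.single_apply, if_neg, add_zero]
      rintro ⟨rfl, h⟩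
      simp at h
    rw [Finset.prod_congr rfl fun i _ => this i, Finset.prod_update_of_mem (Finset.mem_univ _)]
    simp
  have hdP : (σ.permMatrix F).det = (-1) ^ (m + 2) := by
    rw [Matrix.det_permutation, hσ, Equiv.Perm.sign_inv, sign_finRotate]
    simp
  refine ⟨⟨M * σ.permMatrix F, ?_⟩, ?_⟩
  · rw [Matrix.det_mul, hdM, hdP, hs, neg_mul, ← pow_add, show m + 3 + (m + 2) = 2 * (m + 2) + 1 by ring,
      pow_succ, pow_mul]
    simp
  intro μ v hμ hv
  have hμ0 : μ ≠ 0 := fun h => by simp [h] at hμ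
  change (M * σ.permMatrix F) *ᵥ v = μ • v at hv
  rw [← Matrix.mulVec_mulVec, Matrix.permMatrix_mulVec] at hv
  have hv0 : s * v (σ 0) = μ * v 0 := by
    have h := congrFun hv 0
    simpa [hM, Matrix.add_mulVec, Matrix.mulVec_diagonal, Matrix.single_mulVec, Pi.smul_apply] using h
  have hv1 : v 0 - a * v (σ 0) = μ * v 1 := by
    have h := congrFun hv 1
    have hσ1 : σ 1 = 0 := by
      rw [hσ, Equiv.Perm.inv_eq_iff_eq]; simp [finRotate_apply]
    simpa [hM, Matrix.add_mulVec, Matrix.mulVec_diagonal, Pi.smul_apply, hσ1, sub_eq_add_neg,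
      Matrix.single_mulVec] using h
  have hlast : σ 0 = Fin.last (m + 2) := by
    rw [hσ, Equiv.Perm.inv_eq_iff_eq]; simp [finRotate_apply]
  have hvj : ∀ j : ℕ, ∀ (hj : j + 2 < m + 3), v ⟨j + 1, by omega⟩ = μ * v ⟨j + 2, hj⟩ := by
    intro j hj
    have h := congrFun hv ⟨j + 2, hj⟩
    have hσj : σ ⟨j + 2, hj⟩ = ⟨j + 1, by omega⟩ := by
      rw [hσ, Equiv.Perm.inv_eq_iff_eq, finRotate_apply]
      refine Fin.ext ?_
      rw [Fin.val_add_one_of_lt' (by show j + 1 + 1 < m + 2 + 1; omega)]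
    have h0 : (⟨j + 2, hj⟩ : Fin (m + 3)) ≠ 0 := fun e => by simpa using congrArg Fin.val e
    have h1 : (⟨j + 2, hj⟩ : Fin (m + 3)) ≠ 1 := fun e => by simpa using congrArg Fin.val e
    simpa [hM, Matrix.add_mulVec, Matrix.mulVec_diagonal, Pi.smul_apply, hσj, Matrix.single_mulVec,
      Function.update_of_ne h0, Function.update_of_ne h1, h1] using h
  obtain ⟨w, hw⟩ : ∃ w, v (Fin.last (m + 2)) = w := ⟨_, rfl⟩
  have hpw : ∀ i : ℕ, i ≤ m + 1 → ∀ h : m + 2 - i < m + 3, v ⟨m + 2 - i, h⟩ = μ ^ i * w := by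
    intro i
    induction i with
    | zero => intro _ h; rw [pow_zero, one_mul, ← hw]; rfl
    | succ i ih =>
        intro hi h
        have h2 := hvj (m + 2 - i - 2) (by omega)
        rw [show (⟨m + 2 - (i + 1), h⟩ : Fin (m + 3)) = ⟨m + 2 - i - 2 + 1, by omega⟩ from Fin.ext (show m + 2 - (i + 1) = m + 2 - i - 2 + 1 by omega), h2,
          show (⟨m + 2 - i - 2 + 2, by omega⟩ : Fin (m + 3)) = ⟨m + 2 - i, by omega⟩ from Fin.ext (show m + 2 - i - 2 + 2 = m + 2 - i by omega),
          ih (by omega) (by omega), pow_succ]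
        ring
  have h1w : v 1 = μ ^ (m + 1) * w := by
    rw [show (1 : Fin (m + 3)) = ⟨m + 2 - (m + 1), by omega⟩ from Fin.ext (show ((1 : Fin (m + 3)) : ℕ) = m + 2 - (m + 1) by
      rw [Fin.val_one]; omega)]
    exact hpw _ le_rfl _
  rw [hlast, hw] at hv0 hv1
  rw [h1w] at hv1
  have hμm : μ * μ ^ (m + 2) = 1 := by rw [← hμ]; ring
  have key : (s - μ * a - 1) * w = 0 := by
    linear_combination hv0 + μ * hv1 + w * hμm
  have hne : s - μ * a - 1 ≠ 0 := by
    rw [hs, ha]
    split_ifs with h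
    · intro e
      apply hμ0
      linear_combination -e - h
    · intro e
      apply h
      linear_combination -e
  have hw0 : w = 0 := (mul_eq_zero.1 key).resolve_left hne
  have h0w : v 0 = 0 := by
    rw [hw0] at hv1
    linear_combination hv1
  funext i
  by_cases hi : i.val = 0
  · rw [show i = 0 from Fin.ext hi]; simpa using h0w
  · have := hpw (m + 2 - i.val) (by omega) (by omega)
    rw [show (⟨m + 2 - (m + 2 - i.val), by omega⟩ : Fin (m + 3)) = i from Fin.ext (by simp; omega), hw0, mul_zero] at this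
    simpa using this

/-- Products of n - 1 conjugates of a transvection do not cover PSL(n, F). -/
theorem exists_not_prod [Fintype F] (n : ℕ) (hn : 3 ≤ n) :
    ∃ x : ProjectiveSpecialLinearGroup (Fin n) F, x ≠ 1 ∧ ∃ g : ProjectiveSpecialLinearGroup (Fin n) F,
      ∀ f : Fin (n - 1) → ProjectiveSpecialLinearGroup (Fin n) F,
        g ≠ (List.ofFn fun i => f i * x * (f i)⁻¹).prod := by
  classical
  obtain ⟨m, rfl⟩ : ∃ m, n = m + 3 := ⟨n - 3, by omega⟩
  set t : SpecialLinearGroup (Fin (m + 3)) F :=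
    ⟨Matrix.transvection 0 1 1, Matrix.det_transvection_of_ne _ _ (by simp) _⟩ with ht
  obtain ⟨G, hG⟩ := exists_no_root_eigen (F := F) m
  refine ⟨QuotientGroup.mk t, ?_, QuotientGroup.mk G, ?_⟩
  · intro h
    rw [QuotientGroup.eq_one_iff, Matrix.SpecialLinearGroup.mem_center_iff] at h
    obtain ⟨r, -, hr⟩ := h
    have := congrFun (congrFun hr 0) 1
    simp [ht, Matrix.transvection] at this
  intro f hf
  choose a ha using fun i => QuotientGroup.mk_surjective (f i)
  set T := (List.ofFn fun i => a i * t * (a i)⁻¹).prod with hT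
  have hmk : QuotientGroup.mk' (Subgroup.center (SpecialLinearGroup (Fin (m + 3)) F)) G =
      QuotientGroup.mk' _ T := by
    rw [hT, map_list_prod, List.map_ofFn]
    refine hf.trans ?_
    congr 2
    funext i
    simp only [Function.comp_apply, map_mul, map_inv, QuotientGroup.mk'_apply, ha]
  obtain ⟨z, hz, hGz⟩ := (QuotientGroup.mk'_eq_mk' _).1 hmk.symm
  obtain ⟨r, hr, hzr⟩ := Matrix.SpecialLinearGroup.mem_center_iff.1 hz
  -- a common fixed vector of the factors
  let Φ : (Fin (m + 3) → F) →ₗ[F] (Fin (m + 3 - 1) → F) :=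
    LinearMap.pi fun i => (LinearMap.proj 1).comp (Matrix.mulVecLin ((a i)⁻¹ : SpecialLinearGroup (Fin (m + 3)) F).1)
  obtain ⟨v, hv, hv0⟩ : ∃ v, Φ v = 0 ∧ v ≠ 0 := by
    have hni : ¬ Function.Injective Φ := fun h => by
      have := LinearMap.finrank_le_finrank_of_injective h
      simp at this
    rw [← LinearMap.ker_eq_bot, ← ne_eq, Submodule.ne_bot_iff] at hni
    obtain ⟨v, hv, hv0⟩ := hni
    exact ⟨v, LinearMap.mem_ker.1 hv, hv0⟩
  have hTv : (T : Matrix (Fin (m + 3)) (Fin (m + 3)) F) *ᵥ v = v := by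
    rw [hT]
    refine prod_fix _ fun s hs => ?_
    obtain ⟨i, rfl⟩ := (List.mem_ofFn' _ _).1 hs
    have hi : (((a i)⁻¹ : SpecialLinearGroup (Fin (m + 3)) F).1 *ᵥ v) 1 = 0 := congrFun hv i
    set u := ((a i)⁻¹ : SpecialLinearGroup (Fin (m + 3)) F).1 *ᵥ v with hu
    have htu : (t : Matrix (Fin (m + 3)) (Fin (m + 3)) F) *ᵥ u = u := by
      rw [show (t : Matrix (Fin (m + 3)) (Fin (m + 3)) F) = Matrix.transvection 0 1 1 from rfl,
        Matrix.transvection, Matrix.add_mulVec, Matrix.one_mulVec, Matrix.single_mulVec, hi]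
      simp
    show ((a i).1 * t.1 * ((a i)⁻¹).1) *ᵥ v = v
    rw [← Matrix.mulVec_mulVec, ← Matrix.mulVec_mulVec, ← hu, htu, hu, Matrix.mulVec_mulVec]
    show (a i * (a i)⁻¹).1 *ᵥ v = v
    rw [mul_inv_cancel]
    exact Matrix.one_mulVec v
  refine hv0 (hG r v (by simpa using hr) ?_)
  rw [← hGz]
  show (T.1 * z.1) *ᵥ v = r • v
  rw [← hzr, ← Matrix.mulVec_mulVec]
  simp only [Matrix.scalar_apply]
  rw [show Matrix.diagonal (fun _ : Fin (m + 3) => r) *ᵥ v = r • v from funext fun i => by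
    simp [Matrix.mulVec_diagonal], Matrix.mulVec_smul, hTv]

end CfsgLib.PSLCover
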